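import Cfsg.Agent.H847.ON.Wie
import Cfsg.Agent.H935.RuM.Mon
import Cfsg.Agent.PreUniq.MonSevenHe
import Cfsg.Agent.BpRankZero.MSix
import Cfsg.Agent.CpAutMSeven.SixRow
import Cfsg.Agent.H58.HeOdd
import Cfsg.Agent.MonsterP.Equiv
import Cfsg.Agent.S1695

/-!
# The O'Nan group is not a subgroup of the Monster (helper847, for S2198)

All involutions of O'N are 2B-elements of M. `h` of order 7 in `C(z)`: if it has fixed rank 6 then `C(h)/⟨h⟩ ≅ He` and `h` is a
commutator in `C(h)`, a perfect cover of `He` with kernel of order 7. If it has fixed rank 0, `no_local` applies.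
-/

set_option autoImplicit false
set_option maxRecDepth 100000

namespace Cfsg.Agent.H847.ON

open Cfsg Cfsg.Agent.MonsterX Cfsg.Agent.MonsterX.InstData Cfsg.Agent.MonsterU
open Cfsg.Agent.MonsterP Cfsg.Agent.MonsterN
open Cfsg.Agent.LThreeMB (fr XX Zx KChart.Cent KChart.pi KChart.chart exists_XX_equiv)
open Cfsg.Agent.PreUniq
open Cfsg.Spor (Co1)
open Subgroup
open scoped commutatorElement

/-- A central element of prime order `p` which is a commutator in its centralizer: `C(h)/⟨h⟩` has a `p`-fold cover. -/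
theorem no_cover {G : Type} [Group G] [Finite G] {X : Type} [Group X] {n : ℕ} (hX : commutator X = ⊤)
    (hno : H51.Mult.NoCov n X) {h p q : G} (ho : orderOf h = n) (π : centralizer ({h} : Set G) →* X)
    (hπ : Function.Surjective π) (hker : ∀ c, π c = 1 ↔ (c : G) ∈ zpowers h) (ph : p * h = h * p) (qh : q * h = h * q)
    (pq : p * q = h * (q * p)) : False := by
  let h' : centralizer ({h} : Set G) := ⟨h, mem_centralizer_singleton_iff.2 rfl⟩
  let p' : centralizer ({h} : Set G) := ⟨p, mem_centralizer_singleton_iff.2 ph⟩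
  let q' : centralizer ({h} : Set G) := ⟨q, mem_centralizer_singleton_iff.2 qh⟩
  have hcen : π.ker ≤ center (centralizer ({h} : Set G)) := by
    intro c hc
    obtain ⟨i, hi⟩ := mem_zpowers_iff.1 ((hker c).1 hc)
    rw [mem_center_iff]
    intro d
    apply Subtype.ext
    show (d : G) * c = c * d
    rw [← hi]
    exact ((show Commute (d : G) h from mem_centralizer_singleton_iff.1 d.2).zpow_right i).eq
  have hh' : h' ∈ _root_.commutator (centralizer ({h} : Set G)) := by
    have e : h' = ⁅p', q'⁆ := by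
      apply Subtype.ext
      show h = p * q * p⁻¹ * q⁻¹
      rw [pq]; group
    rw [e]
    exact commutator_mem_commutator (mem_top _) (mem_top _)
  have hkc : π.ker ≤ _root_.commutator (centralizer ({h} : Set G)) := by
    intro c hc
    obtain ⟨i, hi⟩ := mem_zpowers_iff.1 ((hker c).1 hc)
    have : c = h' ^ i := Subtype.ext (by rw [SubgroupClass.coe_zpow]; exact hi.symm)
    rw [this]
    exact zpow_mem hh' i
  have hperf : _root_.commutator (centralizer ({h} : Set G)) = ⊤ := by
    have h1 : (_root_.commutator (centralizer ({h} : Set G))).map π = ⊤ := by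
      rw [_root_.commutator_def, map_commutator, ← MonoidHom.range_eq_map, MonoidHom.range_eq_top.2 hπ, ← _root_.commutator_def, hX]
    rw [eq_top_iff]
    intro c _
    have h2 : π c ∈ (_root_.commutator (centralizer ({h} : Set G))).map π := by rw [h1]; trivial
    obtain ⟨d, hd, hdc⟩ := h2
    have h3 : d⁻¹ * c ∈ π.ker := by
      rw [MonoidHom.mem_ker, map_mul, map_inv, hdc, inv_mul_cancel]
    have h4 : c = d * (d⁻¹ * c) := by group
    rw [h4]
    exact mul_mem hd (hkc h3)
  refine hno _ π ⟨hπ, hcen, hperf⟩ ?_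
  have e : Nat.card π.ker = Nat.card (zpowers h) := by
    refine Nat.card_congr ⟨fun c => ⟨((c : centralizer ({h} : Set G)) : G), (hker _).1 c.2⟩, fun a => ⟨⟨a, ?_⟩, ?_⟩, fun c => rfl, fun a => rfl⟩
    · obtain ⟨i, hi⟩ := mem_zpowers_iff.1 a.2
      rw [← hi]
      exact mem_centralizer_singleton_iff.2 ((Commute.refl h).zpow_left i).eq
    · exact (hker _).2 a.2
  rw [e, Nat.card_zpowers, ho]

/-- **The obstruction in the model.** -/
theorem no_tup {h x y p q k₁ k₂ k₃ c d u v : ↥InstData.M.G}
    (t : Tup KDone.K.z h x y p q k₁ k₂ k₃ c d u v) (h1 : h ≠ 1) : False := by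
  have hfin : Finite ↥InstData.M.G := MonRow.finite
  have hch := KChart.chart KDone.lft MonRow.cent
  have hf7 : Fact (Nat.Prime 7) := ⟨by norm_num⟩
  let h' : centralizer ({KDone.K.z} : Set ↥InstData.M.G) := ⟨h, mem_centralizer_singleton_iff.2 t.ht⟩
  have oh : orderOf h = 7 := orderOf_eq_prime t.h7 h1
  have oh' : orderOf h' = 7 := by rw [← Subgroup.orderOf_coe]; exact oh
  rcases CpAutMSeven.Ranks.hranks _ (MFive.orderOf_pi hch (by norm_num) (by decide) oh') with hfr | hfr
  · refine no_local (Q := KDone.K.ι.range) hch.card_Q hch.large.z_mem hch.large.z_ne ?_ t h1 ?_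
    · intro c hc q hq
      exact hch.large.conj_mem c hc q hq
    · intro q hq hc
      exact MonGen.free_of_fr hch (p := 7) (by decide) (x := h') (by rw [← oh', pow_orderOf_eq_one]) hfr hq hc
  · have hHe : Cfsg.Spor.IsoHe (XX (h' : ↥InstData.M.G)) :=
      Cfsg.Agent.BpRankZero.MSix.isoHe_of oh' hfr (Cfsg.Agent.CpAutMSeven.SixRow.heHyp _ oh' hfr)
    obtain ⟨e⟩ := hHe
    have hs := Cfsg.Agent.S1695.result
    have : Finite Spor.He := Nat.finite_of_card_ne_zero (by rw [hs.2]; norm_num)
    have hX : commutator Spor.He = ⊤ := H51.Tools.perfect_of_simple hs.1 (by rw [hs.2]; norm_num)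
    refine no_cover hX H58.HeOdd.noCov_seven oh (e.toMonoidHom.comp (QuotientGroup.mk' (Zx h))) ?_ ?_ t.ph t.qh t.pq
    · exact e.surjective.comp (QuotientGroup.mk'_surjective _)
    · intro c
      rw [MonoidHom.comp_apply]
      show e (QuotientGroup.mk' (Zx h) c) = 1 ↔ _
      rw [map_eq_one_iff e e.injective, QuotientGroup.mk'_apply, QuotientGroup.eq_one_iff]
      constructor
      · intro hc
        obtain ⟨i, hi⟩ := mem_zpowers_iff.1 hc
        exact mem_zpowers_iff.2 ⟨i, by rw [← hi]; rfl⟩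
      · intro hc
        obtain ⟨i, hi⟩ := mem_zpowers_iff.1 hc
        exact mem_zpowers_iff.2 ⟨i, Subtype.ext (by rw [← hi]; rfl)⟩

/-- **The obstruction for homomorphisms.** -/
theorem no_model {R : Type*} [Group R] (f : R →* ↥InstData.M.G) (hf : Function.Injective f)
    {τ h x y p q k₁ k₂ k₃ c d u v : R} (t : Tup τ h x y p q k₁ k₂ k₃ c d u v) (hτ : τ ≠ 1) (h1 : h ≠ 1)
    (h4 : (c * d) ^ 4 ≠ 1) : False := by
  -- `τ` is conjugate to `z`
  have hcc : c * c = 1 := by
    have : c * c = u⁻¹ * (u * c * u⁻¹) * (u * c * u⁻¹) * u := by group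
    rw [this, t.ut, mul_assoc u⁻¹, t.tt]; group
  have hc1 : c ≠ 1 := by
    rintro rfl
    apply hτ
    rw [← t.ut]; group
  have hd : d = (v⁻¹ * u) * c * (v⁻¹ * u)⁻¹ := by
    have h2 : d = v⁻¹ * (v * d * v⁻¹) * v := by group
    rw [h2, t.vt, ← t.ut]; group
  have ho : orderOf (c * d) = 8 := by
    have hf2 : Fact (Nat.Prime 2) := ⟨Nat.prime_two⟩
    exact orderOf_eq_prime_pow (p := 2) (n := 2) (by norm_num; exact h4) (by norm_num; exact t.cd)
  obtain ⟨k, hk⟩ := H935.RuM.conj_zz (u := f c) (g := f (v⁻¹ * u)) (by rw [← map_mul, hcc, map_one])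
    (fun h2 => hc1 (hf (by rw [h2, map_one]))) (by
      have h2 : f c * (f (v⁻¹ * u) * f c * (f (v⁻¹ * u))⁻¹) = f (c * d) := by
        conv_rhs => rw [hd]
        simp only [map_mul, map_inv]
      rw [h2, orderOf_injective f hf, ho]
      norm_num)
  let g : R →* ↥InstData.M.G := (MulAut.conj (f u * k)⁻¹).toMonoidHom.comp f
  have hg : Function.Injective g := (MulAut.conj (f u * k)⁻¹).injective.comp hf
  have hgz : g τ = KDone.K.z := by
    show (f u * k)⁻¹ * f τ * (f u * k)⁻¹⁻¹ = KDone.K.z
    rw [← t.ut, map_mul, map_mul, map_inv, ← hk]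
    group
  have t' := t.map g
  rw [hgz] at t'
  exact no_tup t' (fun h2 => h1 (hg (by rw [h2, map_one])))

/-- **No injective homomorphism from `ON` to the Monster.** -/
theorem no_hom {R : Type*} [Group R] (h : Spor.IsoON R) (f : R →* Spor.Monster) : ¬ Function.Injective f := by
  intro hf
  obtain ⟨e⟩ := h
  obtain ⟨e2⟩ := MonsterP.Equiv.equiv
  obtain ⟨τ, h, x, y, p, q, k₁, k₂, k₃, c, d, u, v, t, h1, h2, h3⟩ := exists_tup
  refine no_model ((e2.toMonoidHom.comp f).comp e.symm.toMonoidHom) ?_ t h1 h2 h3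
  exact (e2.injective.comp hf).comp e.symm.injective

/-- **No subgroup of the Monster is isomorphic to `ON`.** -/
theorem no_subgroup (H : Subgroup Spor.Monster) : ¬ Spor.IsoON ↥H := fun h =>
  no_hom h H.subtype H.subtype_injective

end Cfsg.Agent.H847.ON
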