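import Cfsg.Agent.KFacts.ON.Words
import Cfsg.Agent.KFacts.ON.OneClass

/-!
# Elements of the presented O'Nan group (helper847, for S2198)

`Tup`: `h` of order 7, `E = ⟨x, y⟩` of order 9 in the centralizer of the involution `τ`, `x h x⁻¹ = h²`, the four subgroups of
order 3 of `E` are conjugate in `C(τ)`; `h` is the commutator of `p, q ∈ C(h)`; `c d` of order 8, `c` and `d` conjugate to `τ`.
-/

set_option autoImplicit false
set_option maxRecDepth 100000

namespace Cfsg.Agent.H847.ON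

open Cfsg.Spor (ON)
open Cfsg.Spor.ON (Gen)
open Cfsg.Agent.SporadicB.ON45Word (on)
open Cfsg.Agent.KFacts.MulSpor.ON (w w_append w_one w_cons w_iw iw eqw cj)
open Cfsg.Agent.KFacts.ON

structure Tup {G : Type*} [Group G] (τ h x y p q k₁ k₂ k₃ c d u v : G) : Prop where
  tt : τ * τ = 1
  ht : h * τ = τ * h
  xt : x * τ = τ * x
  yt : y * τ = τ * y
  k1t : k₁ * τ = τ * k₁
  k2t : k₂ * τ = τ * k₂
  k3t : k₃ * τ = τ * k₃
  h7 : h ^ 7 = 1
  x3 : x ^ 3 = 1
  y3 : y ^ 3 = 1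
  xh : x * h * x⁻¹ = h ^ 2
  xy : x * y = y * x
  kx1 : k₁ * x * k₁⁻¹ = y
  kx2 : k₂ * x * k₂⁻¹ = x * y
  kx3 : k₃ * x * k₃⁻¹ = x * y⁻¹
  ph : p * h = h * p
  qh : q * h = h * q
  pq : p * q = h * (q * p)
  ut : u * c * u⁻¹ = τ
  vt : v * d * v⁻¹ = τ
  cd : (c * d) ^ 8 = 1

theorem Tup.map {G H : Type*} [Group G] [Group H] (φ : G →* H) {τ h x y p q k₁ k₂ k₃ c d u v : G}
    (t : Tup τ h x y p q k₁ k₂ k₃ c d u v) :
    Tup (φ τ) (φ h) (φ x) (φ y) (φ p) (φ q) (φ k₁) (φ k₂) (φ k₃) (φ c) (φ d) (φ u) (φ v) where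
  tt := by rw [← map_mul, t.tt, map_one]
  ht := by rw [← map_mul, t.ht, map_mul]
  xt := by rw [← map_mul, t.xt, map_mul]
  yt := by rw [← map_mul, t.yt, map_mul]
  k1t := by rw [← map_mul, t.k1t, map_mul]
  k2t := by rw [← map_mul, t.k2t, map_mul]
  k3t := by rw [← map_mul, t.k3t, map_mul]
  h7 := by rw [← map_pow, t.h7, map_one]
  x3 := by rw [← map_pow, t.x3, map_one]
  y3 := by rw [← map_pow, t.y3, map_one]
  xh := by rw [← map_mul, ← map_inv, ← map_mul, t.xh, map_pow]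
  xy := by rw [← map_mul, t.xy, map_mul]
  kx1 := by rw [← map_mul, ← map_inv, ← map_mul, t.kx1]
  kx2 := by rw [← map_mul, ← map_inv, ← map_mul, t.kx2, map_mul]
  kx3 := by rw [← map_mul, ← map_inv, ← map_mul, t.kx3, map_mul, map_inv]
  ph := by rw [← map_mul, t.ph, map_mul]
  qh := by rw [← map_mul, t.qh, map_mul]
  pq := by rw [← map_mul, t.pq, map_mul, map_mul]
  ut := by rw [← map_mul, ← map_inv, ← map_mul, t.ut]
  vt := by rw [← map_mul, ← map_inv, ← map_mul, t.vt]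
  cd := by rw [← map_mul, ← map_pow, t.cd, map_one]

def lh : List Gen := [.a, .g, .b, .g, .b, .c, .b, .d, .c, .d, .c, .g, .b, .g]
def lx : List Gen := [.a, .b]
def ly : List Gen := [.a, .g, .b, .g, .g, .g]
def lp : List Gen := [.e, .d, .c, .g, .e, .d, .g, .g, .g, .e, .c, .d, .c, .d, .e, .a, .b, .a, .c, .b, .a, .d, .e, .d, .c, .b, .d, .e, .d, .c, .d, .c, .e, .g, .d, .e, .g, .g, .g, .c, .d, .e]
def lq : List Gen := [.e, .d, .c, .g, .e, .d, .g, .g, .g, .e, .c, .d, .c, .d, .e, .a, .f, .e, .d, .c, .b, .d, .c, .b, .e, .c, .e, .g, .d, .e, .g, .g, .g, .c, .d, .e]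

theorem mm (l m : List Gen) (h : Cfsg.Agent.KFacts.MulSpor.ON.okw (l ++ iw m) = true) : w l = w m := Words.eq l m h

theorem xx (l m l' m' : List Gen) (h : Cfsg.Agent.KFacts.MulSpor.ON.okw ((l ++ m) ++ iw (l' ++ m')) = true) :
    w l * w m = w l' * w m' := by
  rw [← w_append, ← w_append]
  exact mm _ _ h

theorem cc (k l m : List Gen) (h : Cfsg.Agent.KFacts.MulSpor.ON.okw ((k ++ l) ++ iw (m ++ k)) = true) :
    w k * w l * (w k)⁻¹ = w m := by
  rw [mul_inv_eq_iff_eq_mul]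
  exact xx _ _ _ _ h

theorem pw (l : List Gen) (n : ℕ) : w l ^ n = w (List.flatten (List.replicate n l)) := by
  induction n with
  | zero => simp [w]
  | succ n ih => rw [pow_succ', ih, ← w_append, List.replicate_succ, List.flatten_cons]

theorem isConj_f (x : ON) (hx : x * x = 1) (hx1 : x ≠ 1) : ∃ u : ON, u * x * u⁻¹ = on .f :=
  isConj_iff.1 (OneClass.one_class hx hx1)

theorem ne1 (l : List Gen) (h : Cfsg.Agent.ONType.TupRow.rowNe (l.map fun x => Cfsg.Agent.SporadicB.ON45Rels.gens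
    (Cfsg.Agent.SporadicB.ON45Word.gi x)) [] = true) : w l ≠ 1 :=
  Cfsg.Agent.ONType.TupRow.ne_of_rowNe (Cfsg.Agent.SporadicB.ON45Word.LW.word l)
    Cfsg.Agent.SporadicB.ON45Word.LW.one h

theorem f_ne : on .f ≠ 1 := by
  rw [← w_one]
  exact ne1 _ (by decide +kernel)

theorem h_ne : w lh ≠ 1 := ne1 _ (by decide +kernel)

theorem c_ne : on .c ≠ 1 := by
  rw [← w_one]
  exact ne1 _ (by decide +kernel)

theorem d_ne : on .d ≠ 1 := by
  rw [← w_one]
  exact ne1 _ (by decide +kernel)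

theorem cd4_ne : (on .c * on .d) ^ 4 ≠ 1 := by
  have h : (on .c * on .d) ^ 4 = w [.c, .d, .c, .d, .c, .d, .c, .d] := by
    rw [← w_one, ← w_one, ← w_append, pw]
    rfl
  rw [h]
  exact ne1 _ (by decide +kernel)

theorem cd8 : (on .c * on .d) ^ 8 = 1 := by
  have h : (on .c * on .d) ^ 8 = w [.c, .d, .c, .d, .c, .d, .c, .d, .c, .d, .c, .d, .c, .d, .c, .d] := by
    rw [← w_one, ← w_one, ← w_append, pw]
    rfl
  rw [h]
  exact mm _ [] (by decide +kernel)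

theorem cc1 : on .c * on .c = 1 := by
  rw [← w_one, ← w_append]
  exact mm _ [] (by decide +kernel)

theorem dd1 : on .d * on .d = 1 := by
  rw [← w_one, ← w_append]
  exact mm _ [] (by decide +kernel)

/-- **The tuple in O'N.** -/
theorem exists_tup : ∃ τ h x y p q k₁ k₂ k₃ c d u v : ON, Tup τ h x y p q k₁ k₂ k₃ c d u v ∧ τ ≠ 1 ∧ h ≠ 1 ∧
    (c * d) ^ 4 ≠ 1 := by
  obtain ⟨u, hu⟩ := isConj_f _ cc1 c_ne
  obtain ⟨v, hv⟩ := isConj_f _ dd1 d_ne
  refine ⟨w [.f], w lh, w lx, w ly, w lp, w lq, w [.g], w [.a, .g, .c, .g, .c], w [.a, .c, .g, .c], on .c, on .d, u, v,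
    ⟨?_, ?_, ?_, ?_, ?_, ?_, ?_, ?_, ?_, ?_, ?_, ?_, ?_, ?_, ?_, ?_, ?_, ?_, ?_, ?_, ?_⟩, ?_, h_ne, cd4_ne⟩
  · rw [← w_append]; exact mm _ [] (by decide +kernel)
  · exact xx _ _ _ _ (by decide +kernel)
  · exact xx _ _ _ _ (by decide +kernel)
  · exact xx _ _ _ _ (by decide +kernel)
  · exact xx _ _ _ _ (by decide +kernel)
  · exact xx _ _ _ _ (by decide +kernel)
  · exact xx _ _ _ _ (by decide +kernel)
  · rw [pw]; exact mm _ [] (by decide +kernel)
  · rw [pw]; exact mm _ [] (by decide +kernel)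
  · rw [pw]; exact mm _ [] (by decide +kernel)
  · rw [pw]; exact cc _ _ _ (by decide +kernel)
  · exact xx _ _ _ _ (by decide +kernel)
  · exact cc _ _ _ (by decide +kernel)
  · rw [← w_append lx ly]; exact cc _ _ _ (by decide +kernel)
  · rw [← w_iw Words.hs ly, ← w_append lx (iw ly)]; exact cc _ _ _ (by decide +kernel)
  · exact xx _ _ _ _ (by decide +kernel)
  · exact xx _ _ _ _ (by decide +kernel)
  · rw [← w_append lq lp]; exact xx _ _ _ _ (by decide +kernel)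
  · rw [hu, w_one]
  · rw [hv, w_one]
  · exact cd8
  · rw [w_one]; exact f_ne

end Cfsg.Agent.H847.ON
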