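import Cfsg.Agent.H847.ON.Tup
import Cfsg.Agent.OddOrderCharacters.Wielandt
import Cfsg.Agent.S1545

/-!
# A local contradiction (helper847, for S2198)

`no_local`: `Q` of order `2 ^ 25`, `h` of order 7 with `C_Q(h) = ⟨z⟩`, `x h x⁻¹ = h²`: `|C_Q(x)| = 2 ^ 9`; the four subgroups of
order 3 of `⟨x, y⟩` are conjugate, `2 ^ 25 |C_Q(x, y)| ^ 3 = (2 ^ 9) ^ 4` is impossible.
-/

set_option autoImplicit false

namespace Cfsg.Agent.H847.ON

open Subgroup
open Cfsg.Agent.OddOrderCharacters.Wielandt (wielandt)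

section nine

variable {G : Type*} [Group G] {x y : G}

/-- the four cyclic subgroups -/
def X4 (x y : G) : Fin 4 → Subgroup G := ![zpowers x, zpowers y, zpowers (x * y), zpowers (x * y⁻¹)]

def Y4 (F : Subgroup G) : Fin 4 → Subgroup G := ![F, ⊥, ⊥, ⊥]

theorem mem_three {a f : G} (ha : a ^ 3 = 1) (hf : f ∈ zpowers a) : f = 1 ∨ f = a ∨ f = a⁻¹ := by
  obtain ⟨n, rfl⟩ := mem_zpowers_iff.1 hf
  have h3 : a ^ (3 : ℤ) = 1 := by exact_mod_cast ha
  have key : a ^ n = a ^ (n % 3) := by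
    conv_lhs => rw [← Int.mul_ediv_add_emod n 3, zpow_add, zpow_mul, h3, one_zpow, one_mul]
  rw [key]
  have h1 := Int.emod_nonneg n (by norm_num : (3 : ℤ) ≠ 0)
  have h2 := Int.emod_lt_of_pos n (by norm_num : (0 : ℤ) < 3)
  interval_cases h : n % 3
  · left; exact zpow_zero a
  · right; left; exact zpow_one a
  · right; right
    have : a ^ (2 : ℤ) * a = 1 := by
      rw [← h3, show (3 : ℤ) = 2 + 1 by norm_num, zpow_add, zpow_one]
    exact eq_inv_of_mul_eq_one_left this

variable (x3 : x ^ 3 = 1) (y3 : y ^ 3 = 1) (xy : x * y = y * x) (hx : x ≠ 1) (h1 : x * y ≠ 1) (h2 : x * y⁻¹ ≠ 1)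
  (hy : y ≠ 1)

include x3 y3 xy

theorem cube_xy : (x * y) ^ 3 = 1 := by
  rw [(show Commute x y from xy).mul_pow, x3, y3, one_mul]

theorem cube_xyi : (x * y⁻¹) ^ 3 = 1 := by
  rw [(show Commute x y from xy).inv_right.mul_pow, x3, inv_pow, y3, inv_one, one_mul]

/-- elements of `⟨x, y⟩` -/
theorem mem_F {f : G} (hf : f ∈ closure ({x, y} : Set G)) : ∃ i, f ∈ X4 x y i := by
  have hf' : ∃ a b : ℤ, f = x ^ a * y ^ b := by
    induction hf using closure_induction with
    | mem f hf =>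
      rcases hf with rfl | hf
      · exact ⟨1, 0, by simp⟩
      · rw [Set.mem_singleton_iff.1 hf]; exact ⟨0, 1, by simp⟩
    | one => exact ⟨0, 0, by simp⟩
    | mul f g _ _ hf hg =>
      obtain ⟨a, b, rfl⟩ := hf
      obtain ⟨c, d, rfl⟩ := hg
      refine ⟨a + c, b + d, ?_⟩
      have hc : y ^ b * x ^ c = x ^ c * y ^ b := ((show Commute x y from xy).symm.zpow_zpow b c).eq
      rw [zpow_add, zpow_add]
      calc x ^ a * y ^ b * (x ^ c * y ^ d) = x ^ a * (y ^ b * x ^ c) * y ^ d := by group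
        _ = _ := by rw [hc]; group
    | inv f _ hf =>
      obtain ⟨a, b, rfl⟩ := hf
      refine ⟨-a, -b, ?_⟩
      have hc : y ^ (-b) * x ^ (-a) = x ^ (-a) * y ^ (-b) := ((show Commute x y from xy).symm.zpow_zpow _ _).eq
      rw [mul_inv_rev, ← zpow_neg, ← zpow_neg, hc]
  obtain ⟨a, b, rfl⟩ := hf'
  rcases mem_three x3 (mem_zpowers_iff.2 ⟨a, rfl⟩ : x ^ a ∈ zpowers x) with ha | ha | ha <;>
  rcases mem_three y3 (mem_zpowers_iff.2 ⟨b, rfl⟩ : y ^ b ∈ zpowers y) with hb | hb | hb <;> rw [ha, hb]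
  · exact ⟨0, by rw [one_mul]; exact one_mem _⟩
  · exact ⟨1, by rw [one_mul]; exact mem_zpowers y⟩
  · exact ⟨1, by rw [one_mul]; exact inv_mem (mem_zpowers y)⟩
  · exact ⟨0, by rw [mul_one]; exact mem_zpowers x⟩
  · exact ⟨2, mem_zpowers (x * y)⟩
  · exact ⟨3, mem_zpowers (x * y⁻¹)⟩
  · exact ⟨0, by rw [mul_one]; exact inv_mem (mem_zpowers x)⟩
  · refine ⟨3, ?_⟩
    have : x⁻¹ * y = (x * y⁻¹)⁻¹ := by
      rw [mul_inv_rev, inv_inv]
      have hc : y * x⁻¹ = x⁻¹ * y := ((show Commute x y from xy).symm.inv_right).eq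
      rw [hc]
    rw [this]
    exact inv_mem (mem_zpowers (x * y⁻¹))
  · refine ⟨2, ?_⟩
    have : x⁻¹ * y⁻¹ = (x * y)⁻¹ := by
      rw [xy, mul_inv_rev]
    rw [this]
    exact inv_mem (mem_zpowers (x * y))

omit x3 y3 xy in
theorem le_F (i : Fin 4) : X4 x y i ≤ closure ({x, y} : Set G) := by
  have hx : x ∈ closure ({x, y} : Set G) := subset_closure (by simp)
  have hy : y ∈ closure ({x, y} : Set G) := subset_closure (by simp)
  fin_cases i
  · exact zpowers_le.2 hx
  · exact zpowers_le.2 hy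
  · exact zpowers_le.2 (mul_mem hx hy)
  · exact zpowers_le.2 (mul_mem hx (inv_mem hy))

include hx h1 h2 hy

/-- the subgroups intersect trivially -/
theorem uniq {f : G} (hf : f ≠ 1) {i j : Fin 4} (hi : f ∈ X4 x y i) (hj : f ∈ X4 x y j) : i = j := by
  -- `x` and `y` in a cyclic group generated by `f`
  have cX : ∀ a : G, a ^ 3 = 1 → f ∈ zpowers a → a = f ∨ a = f⁻¹ := by
    intro a ha h
    rcases mem_three ha h with h | h | h
    · exact absurd h hf
    · exact Or.inl h.symm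
    · right; rw [h, inv_inv]
  have key : ∀ a b : G, (a = f ∨ a = f⁻¹) → (b = f ∨ b = f⁻¹) → a * b⁻¹ = 1 ∨ a * b = 1 := by
    rintro a b (rfl | rfl) (rfl | rfl)
    · left; group
    · right; group
    · right; group
    · left; group
  have c1 := cube_xy x3 y3 xy
  have c2 := cube_xyi x3 y3 xy
  have hc : Commute x y := xy
  have e0 : ∀ i, f ∈ X4 x y i → (![x, y, x * y, x * y⁻¹] i = f ∨ ![x, y, x * y, x * y⁻¹] i = f⁻¹) := by
    intro i hi
    fin_cases i
    · exact cX _ x3 hi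
    · exact cX _ y3 hi
    · exact cX _ c1 hi
    · exact cX _ c2 hi
  have hk := key _ _ (e0 i hi) (e0 j hj)
  have y2 : y * y ≠ 1 := by
    intro h
    apply hy
    calc y = (y * y)⁻¹ * y ^ 3 := by group
      _ = 1 := by rw [h, y3]; group
  have x2 : x * x ≠ 1 := by
    intro h
    apply hx
    calc x = (x * x)⁻¹ * x ^ 3 := by group
      _ = 1 := by rw [h, x3]; group
  have xi : x⁻¹ = x * x := inv_eq_of_mul_eq_one_right (by rw [← x3, pow_succ', pow_two])
  have yi : y⁻¹ = y * y := inv_eq_of_mul_eq_one_right (by rw [← y3, pow_succ', pow_two])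
  have h1' : y * x ≠ 1 := by rw [← xy]; exact h1
  have h2' : y * x⁻¹ ≠ 1 := by
    intro h
    apply h2
    have : (y * x⁻¹)⁻¹ = x * y⁻¹ := by group
    rw [← this, h, inv_one]
  have cyx : y⁻¹ * x = x * y⁻¹ := (hc.symm.inv_left).eq
  have cxy : x⁻¹ * y = y * x⁻¹ := (hc.inv_left).eq
  -- all the products
  have a1 : x * (x * y)⁻¹ ≠ 1 := by
    intro h; apply hy
    have : x * (x * y)⁻¹ = y⁻¹ := by rw [xy]; group
    rw [this] at h
    exact inv_eq_one.1 h
  have a2 : x * (x * y) ≠ 1 := by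
    intro h; apply h2'
    rw [← cxy, xi, mul_assoc]; exact h
  have a3 : x * (x * y⁻¹)⁻¹ ≠ 1 := by
    intro h; apply hy
    have : x * (x * y⁻¹)⁻¹ = y := by
      rw [mul_inv_rev, inv_inv, ← cxy]; group
    rw [this] at h
    exact h
  have a4 : x * (x * y⁻¹) ≠ 1 := by
    intro h; apply h1
    have : x * (x * y⁻¹) = (x * y)⁻¹ := by
      rw [← mul_assoc, ← xi, xy, mul_inv_rev]
    rw [this] at h
    exact inv_eq_one.1 h
  have b1 : y * (x * y)⁻¹ ≠ 1 := by
    intro h; apply hx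
    have : y * (x * y)⁻¹ = x⁻¹ := by group
    rw [this] at h
    exact inv_eq_one.1 h
  have b2 : y * (x * y) ≠ 1 := by
    intro h; apply h2
    rw [yi, ← mul_assoc, xy, mul_assoc]; exact h
  have b3 : y * (x * y⁻¹)⁻¹ ≠ 1 := by
    intro h; apply h1
    have : y * (x * y⁻¹)⁻¹ = (x * y)⁻¹ := by
      rw [mul_inv_rev, inv_inv, ← mul_assoc, ← yi, mul_inv_rev]
    rw [this] at h
    exact inv_eq_one.1 h
  have b4 : y * (x * y⁻¹) ≠ 1 := by
    intro h; apply hx
    have : y * (x * y⁻¹) = x := by rw [← mul_assoc, ← xy]; group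
    rw [this] at h
    exact h
  have d1 : x * y * (x * y⁻¹)⁻¹ ≠ 1 := by
    intro h; apply y2
    have : x * y * (x * y⁻¹)⁻¹ = y * y := by
      rw [mul_inv_rev, inv_inv, ← cxy, mul_assoc, ← mul_assoc y, ← cxy]; group
    rw [this] at h
    exact h
  have d2 : x * y * (x * y⁻¹) ≠ 1 := by
    intro h; apply x2
    have : x * y * (x * y⁻¹) = x * x := by
      rw [xy, mul_assoc, ← mul_assoc x, ← mul_assoc y, ← mul_assoc y, ← xy, mul_assoc x y, ← xy]; group
    rw [this] at h
    exact h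
  have sw : ∀ a b : G, Commute a b → (a * b⁻¹ ≠ 1 ∧ a * b ≠ 1) → (b * a⁻¹ ≠ 1 ∧ b * a ≠ 1) := by
    intro a b hab ⟨h1, h2⟩
    refine ⟨fun h => h1 ?_, fun h => h2 ?_⟩
    · have : (b * a⁻¹)⁻¹ = a * b⁻¹ := by group
      rw [← this, h, inv_one]
    · rw [hab.eq]; exact h
  have cc1 : Commute x (x * y) := (Commute.refl x).mul_right hc
  have cc2 : Commute x (x * y⁻¹) := (Commute.refl x).mul_right hc.inv_right
  have cc3 : Commute y (x * y) := hc.symm.mul_right (Commute.refl y)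
  have cc4 : Commute y (x * y⁻¹) := hc.symm.mul_right (Commute.refl y).inv_right
  have cc5 : Commute (x * y) (x * y⁻¹) := cc2.mul_left cc4
  have P : ∀ i j : Fin 4, i ≠ j → (![x, y, x * y, x * y⁻¹] i) * (![x, y, x * y, x * y⁻¹] j)⁻¹ ≠ 1 ∧
      (![x, y, x * y, x * y⁻¹] i) * (![x, y, x * y, x * y⁻¹] j) ≠ 1 := by
    intro i j hij
    fin_cases i <;> fin_cases j <;> first | exact absurd rfl hij | skip
    · exact ⟨h2, h1⟩
    · exact ⟨a1, a2⟩
    · exact ⟨a3, a4⟩
    · exact sw _ _ hc ⟨h2, h1⟩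
    · exact ⟨b1, b2⟩
    · exact ⟨b3, b4⟩
    · exact sw _ _ cc1 ⟨a1, a2⟩
    · exact sw _ _ cc3 ⟨b1, b2⟩
    · exact ⟨d1, d2⟩
    · exact sw _ _ cc2 ⟨a3, a4⟩
    · exact sw _ _ cc4 ⟨b3, b4⟩
    · exact sw _ _ cc5 ⟨d1, d2⟩
  by_contra hij
  rcases hk with h | h
  · exact (P i j hij).1 h
  · exact (P i j hij).2 h

theorem count (f : G) : Nat.card {i // f ∈ X4 x y i} = Nat.card {j // f ∈ Y4 (closure ({x, y} : Set G)) j} := by
  by_cases hf : f = 1
  · subst hf
    rw [Nat.card_congr (Equiv.subtypeUnivEquiv fun i => one_mem _),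
      Nat.card_congr (Equiv.subtypeUnivEquiv fun i => one_mem _)]
  · by_cases hF : f ∈ closure ({x, y} : Set G)
    · obtain ⟨i, hi⟩ := mem_F x3 y3 xy hF
      have e1 : Nat.card {i // f ∈ X4 x y i} = 1 := by
        rw [Nat.card_eq_one_iff_unique]
        exact ⟨⟨fun a b => Subtype.ext (uniq x3 y3 xy hx h1 h2 hy hf a.2 b.2)⟩, ⟨⟨i, hi⟩⟩⟩
      have e2 : Nat.card {j // f ∈ Y4 (closure ({x, y} : Set G)) j} = 1 := by
        rw [Nat.card_eq_one_iff_unique]
        have key : ∀ j : Fin 4, f ∈ Y4 (closure ({x, y} : Set G)) j → j = 0 := by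
          intro j hj
          fin_cases j
          · rfl
          · exact absurd (mem_bot.1 hj) hf
          · exact absurd (mem_bot.1 hj) hf
          · exact absurd (mem_bot.1 hj) hf
        exact ⟨⟨fun a b => Subtype.ext ((key _ a.2).trans (key _ b.2).symm)⟩, ⟨⟨0, hF⟩⟩⟩
      rw [e1, e2]
    · have e1 : IsEmpty {i // f ∈ X4 x y i} := ⟨fun a => hF (le_F a.1 a.2)⟩
      have e2 : IsEmpty {j // f ∈ Y4 (closure ({x, y} : Set G)) j} := by
        refine ⟨fun a => ?_⟩
        obtain ⟨j, hj⟩ := a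
        fin_cases j
        · exact hF hj
        · exact hf (mem_bot.1 hj)
        · exact hf (mem_bot.1 hj)
        · exact hf (mem_bot.1 hj)
      rw [Nat.card_of_isEmpty, Nat.card_of_isEmpty]

end nine

section loc

open scoped Pointwise

variable {G : Type*} [Group G] [Finite G] {Q : Subgroup G}

omit [Finite G] in
/-- conjugates have centralizers of the same order -/
theorem card_conj {a k b : G} (hk : ∀ q ∈ Q, k * q * k⁻¹ ∈ Q) (hk' : ∀ q ∈ Q, k⁻¹ * q * k ∈ Q) (h : k * a * k⁻¹ = b) :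
    Nat.card ↥(Q ⊓ centralizer ((zpowers b : Subgroup G) : Set G)) =
      Nat.card ↥(Q ⊓ centralizer ((zpowers a : Subgroup G) : Set G)) := by
  have e : (MulAut.conj k • zpowers a : Subgroup G) = zpowers b := by
    rw [← h]
    show (zpowers a).map (MulAut.conj k).toMonoidHom = _
    rw [MonoidHom.map_zpowers]
    rfl
  rw [← e]
  refine Cfsg.Agent.S1545.card_centralizer_conj Q (zpowers a) k ?_
  rw [mem_normalizer_iff]
  intro q
  refine ⟨hk q, fun hq => ?_⟩
  have := hk' _ hq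
  have e : k⁻¹ * (k * q * k⁻¹) * k = q := by group
  rwa [e] at this

theorem no_local {z h x y p q k₁ k₂ k₃ c d u v : G} (hcard : Nat.card Q = 2 ^ 25) (hz : z ∈ Q) (hz1 : z ≠ 1)
    (hQn : ∀ c : G, c * z = z * c → ∀ q ∈ Q, c * q * c⁻¹ ∈ Q) (t : Tup z h x y p q k₁ k₂ k₃ c d u v) (h1 : h ≠ 1)
    (hfree : ∀ q ∈ Q, h * q = q * h → q = 1 ∨ q = z) : False := by
  -- orders
  have hf2 : Fact (Nat.Prime 2) := ⟨Nat.prime_two⟩
  have hf3 : Fact (Nat.Prime 3) := ⟨Nat.prime_three⟩
  have hf7 : Fact (Nat.Prime 7) := ⟨by norm_num⟩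
  have x1 : x ≠ 1 := by
    rintro rfl
    apply h1
    have h2 := t.xh
    rw [one_mul, inv_one, mul_one, pow_two] at h2
    exact (mul_eq_left.1 h2.symm)
  have hcx : ∀ {k b : G}, k * x * k⁻¹ = b → b ≠ 1 := by
    rintro k _ rfl h2
    apply x1
    calc x = k⁻¹ * (k * x * k⁻¹) * k := by group
      _ = 1 := by rw [h2]; group
  have y1 := hcx t.kx1
  have xy1 := hcx t.kx2
  have xy2 := hcx t.kx3
  have ox : orderOf x = 3 := orderOf_eq_prime t.x3 x1
  have oh : orderOf h = 7 := orderOf_eq_prime t.h7 h1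
  have oy : orderOf y = 3 := orderOf_eq_prime t.y3 y1
  have oxy : orderOf (x * y) = 3 := orderOf_eq_prime (cube_xy t.x3 t.y3 t.xy) xy1
  have oxyi : orderOf (x * y⁻¹) = 3 := orderOf_eq_prime (cube_xyi t.x3 t.y3 t.xy) xy2
  -- normalization
  have hN : ∀ c : G, c * z = z * c → ∀ q ∈ Q, c * q * c⁻¹ ∈ Q ∧ c⁻¹ * q * c ∈ Q := by
    intro c hc q hq
    refine ⟨hQn c hc q hq, ?_⟩
    have := hQn c⁻¹ ((show Commute c z from hc).inv_left).eq q hq
    rwa [inv_inv] at this
  have cQ : ∀ {k b : G}, k * z = z * k → k * x * k⁻¹ = b →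
      Nat.card ↥(Q ⊓ centralizer ((zpowers b : Subgroup G) : Set G)) =
      Nat.card ↥(Q ⊓ centralizer ((zpowers x : Subgroup G) : Set G)) := fun hk hb =>
    card_conj (fun q hq => (hN _ hk q hq).1) (fun q hq => (hN _ hk q hq).2) hb
  -- subgroups of `C(z)`
  have hnz : ∀ S : Set G, (∀ s ∈ S, s * z = z * s) → closure S ≤ normalizer (Q : Set G) := by
    intro S hS
    rw [closure_le]
    intro s hs
    show s ∈ normalizer (Q : Set G)
    rw [mem_normalizer_iff]
    intro q
    refine ⟨fun hq => (hN s (hS s hs) q hq).1, fun hq => ?_⟩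
    have := (hN s (hS s hs) _ hq).2
    have e : s⁻¹ * (s * q * s⁻¹) * s = q := by group
    rwa [e] at this
  have hQ2 : IsPGroup 2 Q := IsPGroup.iff_card.2 ⟨25, hcard⟩
  have hsolv : Group.IsSolvable Q := by
    have := hQ2.isNilpotent
    infer_instance
  -- `C_Q(h)`
  have hCU : Nat.card ↥(Q ⊓ centralizer ((zpowers h : Subgroup G) : Set G)) = 2 := by
    have oz : orderOf z = 2 := orderOf_eq_prime (by rw [pow_two]; exact t.tt) hz1
    have : Q ⊓ centralizer ((zpowers h : Subgroup G) : Set G) = zpowers z := by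
      apply le_antisymm
      · intro q hq
        obtain ⟨hq1, hq2⟩ := mem_inf.1 hq
        have h3 := mem_centralizer_iff.1 hq2 h (mem_zpowers h)
        rcases hfree q hq1 h3 with rfl | rfl
        · exact one_mem _
        · exact mem_zpowers _
      · rw [zpowers_le]
        refine mem_inf.2 ⟨hz, mem_centralizer_iff.2 ?_⟩
        intro a ha
        obtain ⟨n, rfl⟩ := mem_zpowers_iff.1 ha
        exact ((show Commute h z from t.ht).zpow_left n).eq
    rw [this, Nat.card_zpowers, oz]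
  -- the Frobenius group
  have hUE : (zpowers h ⊔ zpowers x : Subgroup G) ≤ closure ({h, x} : Set G) := by
    refine sup_le ?_ ?_ <;> rw [zpowers_le] <;> exact subset_closure (by simp)
  have hUEn : (zpowers h ⊔ zpowers x : Subgroup G) ≤ normalizer (Q : Set G) :=
    hUE.trans (hnz _ (by rintro s (rfl | hs); exacts [t.ht, by rw [Set.mem_singleton_iff.1 hs]; exact t.xt]))
  have hxh : ∀ u ∈ zpowers h, x * u * x⁻¹ ∈ zpowers h := by
    intro u hu
    obtain ⟨n, rfl⟩ := mem_zpowers_iff.1 hu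
    rw [conj_zpow.symm, t.xh]
    exact zpow_mem (pow_mem (mem_zpowers h) 2) n
  have hEU : ∀ e ∈ zpowers x, ∀ u ∈ zpowers h, e * u * e⁻¹ ∈ zpowers h := by
    intro e he
    rcases mem_three t.x3 he with rfl | rfl | rfl
    · intro u hu; simpa using hu
    · exact hxh
    · intro u hu
      have e2 : x⁻¹ * u * x⁻¹⁻¹ = x * (x * u * x⁻¹) * x⁻¹ := by
        have : x⁻¹ = x * x := inv_eq_of_mul_eq_one_right (by rw [← t.x3, pow_succ', pow_two])
        calc x⁻¹ * u * x⁻¹⁻¹ = x⁻¹ * u * (x⁻¹)⁻¹ := rfl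
          _ = x * x * u * (x * x)⁻¹ := by rw [this]
          _ = _ := by group
      rw [e2]
      exact hxh _ (hxh _ hu)
  have cardU : Nat.card ↥(zpowers h) = 7 := by rw [Nat.card_zpowers, oh]
  have cardE : Nat.card ↥(zpowers x) = 3 := by rw [Nat.card_zpowers, ox]
  -- no nontrivial element of `⟨x⟩` commutes with one of `⟨h⟩`
  have hfpf : ∀ e ∈ zpowers x, e ≠ 1 → ∀ u ∈ zpowers h, e * u = u * e → u = 1 := by
    intro e he he1 u hu hc
    by_contra hu1
    -- `x` commutes with `u`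
    have hxu : x * u = u * x := by
      rcases mem_three t.x3 he with rfl | rfl | rfl
      · exact absurd rfl he1
      · exact hc
      · have h2 := (show Commute x⁻¹ u from hc).inv_left
        rw [inv_inv] at h2
        exact h2.eq
    obtain ⟨n, rfl⟩ := mem_zpowers_iff.1 hu
    have h2 : h ^ n = (h ^ 2) ^ n := by
      rw [← t.xh, conj_zpow, hxu, mul_inv_cancel_right]
    have h3 : h ^ n = 1 := by
      have : (h ^ 2) ^ n = h ^ n * h ^ n := by
        rw [pow_two, (Commute.refl h).mul_zpow]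
      rw [this] at h2
      exact (mul_eq_left.1 h2.symm)
    exact hu1 h3
  have hUEb : zpowers h ⊓ zpowers x = ⊥ := by
    rw [eq_bot_iff]
    intro a ha
    obtain ⟨h2, h3⟩ := mem_inf.1 ha
    rw [mem_bot]
    by_contra ha1
    refine ha1 (hfpf a h3 ha1 a h2 rfl)
  -- coprime orders
  have hcop : ∀ (S : Subgroup G) (n : ℕ), Odd n → (∀ s ∈ S, s ^ n = 1) → (Nat.card Q).Coprime (Nat.card S) := by
    intro S n hn hS
    rw [hcard]
    apply Nat.Coprime.pow_left
    rw [Nat.Prime.coprime_iff_not_dvd Nat.prime_two]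
    intro hd
    obtain ⟨s, hs⟩ := exists_prime_orderOf_dvd_card' (G := S) 2 hd
    have h2 : s ^ n = 1 := Subtype.ext (by rw [SubmonoidClass.coe_pow]; exact hS s s.2)
    have h3 := orderOf_dvd_of_pow_eq_one h2
    rw [hs] at h3
    exact (Nat.not_even_iff_odd.2 hn) (even_iff_two_dvd.2 h3)
  have hxn : zpowers x ≤ normalizer ((zpowers h : Subgroup G) : Set G) := by
    rw [zpowers_le]
    show x ∈ normalizer ((zpowers h : Subgroup G) : Set G)
    rw [mem_normalizer_iff]
    intro u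
    refine ⟨hxh u, fun hu => ?_⟩
    have h2 := hEU x⁻¹ (inv_mem (mem_zpowers x)) _ hu
    have e : x⁻¹ * (x * u * x⁻¹) * x⁻¹⁻¹ = u := by group
    rwa [e] at h2
  have hpow : ∀ f ∈ zpowers h ⊔ zpowers x, f ^ 21 = 1 := by
    intro f hf
    have h2 : f ∈ ((zpowers x : Subgroup G) : Set G) * ((zpowers h : Subgroup G) : Set G) := by
      rw [← coe_mul_of_left_le_normalizer_right _ _ hxn, sup_comm]
      exact hf
    obtain ⟨e, he, u, hu, rfl⟩ := Set.mem_mul.1 h2
    have e3 : e ^ 3 = 1 := by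
      rcases mem_three t.x3 he with rfl | rfl | rfl
      · exact one_pow 3
      · exact t.x3
      · rw [inv_pow, t.x3, inv_one]
    have h4 : (e * u) ^ 3 ∈ zpowers h := by
      have e1 : (e * u) ^ 3 = (e * u * e⁻¹) * (e * (e * u * e⁻¹) * e⁻¹) * (e ^ 3 * u) := by
        rw [pow_succ, pow_two, pow_succ e, pow_two]; group
      rw [e1, e3, one_mul]
      exact mul_mem (mul_mem (hEU e he u hu) (hEU e he _ (hEU e he u hu))) hu
    obtain ⟨n, hn⟩ := mem_zpowers_iff.1 h4
    have h7 : h ^ (7 : ℤ) = 1 := by exact_mod_cast t.h7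
    rw [show (21 : ℕ) = 3 * 7 by norm_num, pow_mul, ← hn, ← zpow_natCast, ← zpow_mul, mul_comm, zpow_mul]
    push_cast
    rw [h7, one_zpow]
  have hF3 : ∀ f ∈ closure ({x, y} : Set G), f ^ 3 = 1 := by
    intro f hf
    obtain ⟨i, hi⟩ := mem_F t.x3 t.y3 t.xy hf
    have c1 := cube_xy t.x3 t.y3 t.xy
    have c2 := cube_xyi t.x3 t.y3 t.xy
    have key : ∀ a : G, a ^ 3 = 1 → f ∈ zpowers a → f ^ 3 = 1 := by
      intro a ha hfa
      rcases mem_three ha hfa with rfl | rfl | rfl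
      · exact one_pow 3
      · exact ha
      · rw [inv_pow, ha, inv_one]
    fin_cases i
    · exact key _ t.x3 hi
    · exact key _ t.y3 hi
    · exact key _ c1 hi
    · exact key _ c2 hi
  have hc21 := hcop _ 21 (by decide) hpow
  have hc3 := hcop _ 3 (by decide) hF3
  -- `C_Q(h, x)`
  have hCUE : Nat.card ↥(Q ⊓ centralizer ((zpowers h ⊔ zpowers x : Subgroup G) : Set G)) = 2 := by
    have h2 : Q ⊓ centralizer ((zpowers h ⊔ zpowers x : Subgroup G) : Set G) =
        Q ⊓ centralizer ((zpowers h : Subgroup G) : Set G) := by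
      apply le_antisymm
      · exact inf_le_inf_left _ (centralizer_le (SetLike.coe_subset_coe.2 le_sup_left))
      · intro q hq
        obtain ⟨hq1, hq2⟩ := mem_inf.1 hq
        have h3 := mem_centralizer_iff.1 hq2 h (mem_zpowers h)
        refine mem_inf.2 ⟨hq1, mem_centralizer_iff.2 ?_⟩
        have hqz : ∀ s ∈ closure ({h, x} : Set G), s * q = q * s := by
          have hall : ∀ s : G, s * z = z * s → s * q = q * s ∨ True := fun _ _ => Or.inr trivial
          rcases hfree q hq1 h3 with rfl | rfl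
          · intro s _; rw [one_mul, mul_one]
          · intro s hs
            have h4 : closure ({h, x} : Set G) ≤ centralizer ({q} : Set G) := by
              rw [closure_le]
              rintro s (rfl | hs)
              · exact mem_centralizer_singleton_iff.2 t.ht
              · rw [Set.mem_singleton_iff.1 hs]
                exact mem_centralizer_singleton_iff.2 t.xt
            exact mem_centralizer_singleton_iff.1 (h4 hs)
        intro s hs
        exact hqz s (hUE hs)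
    rw [h2, hCU]
  -- the order of `C_Q(x)`
  have hinf : Q ⊓ (zpowers h ⊔ zpowers x) = ⊥ := (disjoint_of_coprime_natCard hc21).eq_bot
  have hxne : zpowers x ≠ ⊥ := by rw [Ne, zpowers_eq_bot]; exact x1
  have hhne : zpowers h ≠ ⊥ := by rw [Ne, zpowers_eq_bot]; exact h1
  have main := Cfsg.Agent.S1545.result (zpowers h) (zpowers x) Q hhne hxne hUEb hEU hfpf (fun s hs q hq =>
    (mem_normalizer_iff.1 (hUEn hs) q).1 hq) hinf hsolv hc21
  rw [hCUE, hCU, cardE, hcard] at main
  have hCx : Nat.card ↥(Q ⊓ centralizer ((zpowers x : Subgroup G) : Set G)) = 2 ^ 9 := by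
    have h2 : Nat.card ↥(Q ⊓ centralizer ((zpowers x : Subgroup G) : Set G)) ^ 3 = (2 ^ 9) ^ 3 := by
      have : (2 ^ 9) ^ 3 * 2 = 2 ^ 3 * 2 ^ 25 := by norm_num
      omega
    exact Nat.pow_left_injective (n := 3) (by norm_num) h2
  -- Wielandt
  have hW := wielandt (closure ({x, y} : Set G)) Q (hnz _ (by
    rintro s (rfl | hs)
    · exact t.xt
    · rw [Set.mem_singleton_iff.1 hs]; exact t.yt)) hc3.symm hsolv (X4 x y) (Y4 (closure ({x, y} : Set G)))
    (fun i => le_F i) (fun j => by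
      fin_cases j
      · exact le_rfl
      · exact bot_le
      · exact bot_le
      · exact bot_le) (fun f => count t.x3 t.y3 t.xy x1 xy1 xy2 y1 f)
  rw [Fin.prod_univ_four, Fin.prod_univ_four] at hW
  have w0 : X4 x y 0 = zpowers x := rfl
  have w1 : X4 x y 1 = zpowers y := rfl
  have w2 : X4 x y 2 = zpowers (x * y) := rfl
  have w3 : X4 x y 3 = zpowers (x * y⁻¹) := rfl
  have v0 : Y4 (closure ({x, y} : Set G)) 0 = closure {x, y} := rfl
  have v1 : Y4 (closure ({x, y} : Set G)) 1 = ⊥ := rfl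
  have v2 : Y4 (closure ({x, y} : Set G)) 2 = ⊥ := rfl
  have v3 : Y4 (closure ({x, y} : Set G)) 3 = ⊥ := rfl
  have hbot : Nat.card ↥(Q ⊓ centralizer (((⊥ : Subgroup G)) : Set G)) = 2 ^ 25 := by
    have : centralizer (((⊥ : Subgroup G)) : Set G) = ⊤ := by
      rw [eq_top_iff]
      intro a _
      rw [mem_centralizer_iff]
      intro b hb
      rw [mem_bot.1 hb, one_mul, mul_one]
    rw [this, inf_top_eq, hcard]
  rw [w0, w1, w2, w3, v0, v1, v2, v3, cQ t.k1t t.kx1, cQ t.k2t t.kx2, cQ t.k3t t.kx3, hCx, hbot, Nat.card_zpowers,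
    Nat.card_zpowers, Nat.card_zpowers, Nat.card_zpowers, ox, oy, oxy, oxyi, Subgroup.card_bot, pow_one] at hW
  -- `|⟨x, y⟩| = 9`
  have h9 : 9 ∣ Nat.card ↥(closure ({x, y} : Set G)) := by
    have hp : IsPGroup 3 ↥(closure ({x, y} : Set G)) := by
      intro f
      exact ⟨1, Subtype.ext (by rw [SubmonoidClass.coe_pow, pow_one]; exact hF3 f f.2)⟩
    obtain ⟨n, hn⟩ := hp.exists_card_eq
    have hxF : zpowers x ≤ closure ({x, y} : Set G) := zpowers_le.2 (subset_closure (by simp))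
    have hyF : y ∈ closure ({x, y} : Set G) := subset_closure (by simp)
    rcases Nat.lt_or_ge n 2 with h2 | h2
    · exfalso
      have h3 : Nat.card ↥(closure ({x, y} : Set G)) ≤ Nat.card ↥(zpowers x) := by
        rw [hn, cardE]
        calc 3 ^ n ≤ 3 ^ 1 := Nat.pow_le_pow_right (by norm_num) (by omega)
          _ = 3 := by norm_num
      have h4 : zpowers x = closure ({x, y} : Set G) := eq_of_le_of_card_ge hxF h3
      rw [← h4] at hyF
      rcases mem_three t.x3 hyF with h5 | h5 | h5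
      · exact y1 h5
      · apply xy2; rw [h5, mul_inv_cancel]
      · apply xy1; rw [h5, mul_inv_cancel]
    · rw [hn]
      exact (pow_dvd_pow 3 h2)
  have hc : Nat.card ↥(Q ⊓ centralizer ((closure ({x, y} : Set G) : Subgroup G) : Set G)) ∣ 2 ^ 25 := by
    rw [← hcard]
    exact Subgroup.card_dvd_of_le inf_le_left
  obtain ⟨m, -, hm⟩ := (Nat.dvd_prime_pow Nat.prime_two).1 hc
  rw [hm] at hW
  simp only [← pow_mul, ← pow_add] at hW
  have h11 := Nat.pow_right_injective (le_refl 2) hW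
  obtain ⟨k, hk⟩ := h9
  have h12 : m * Nat.card ↥(closure ({x, y} : Set G)) = 9 * (m * k) := by rw [hk]; ring
  omega

end loc

end Cfsg.Agent.H847.ON
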